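import Groth.Prelude.Def_MoreMor
import Mathlib.AlgebraicGeometry.IdealSheaf.Functorial

set_option autoImplicit false
universe u

open CategoryTheory CategoryTheory.Limits AlgebraicGeometry

namespace Groth.Agent.Lib.Helper15

theorem isFirstOrderThickening_restrict {Z Z' : Scheme.{u}} (i : Z ⟶ Z')
    (hi : MoreMor.IsFirstOrderThickening i) (V' : Z'.Opens) :
    MoreMor.IsFirstOrderThickening (i ∣_ V') := by
  obtain ⟨⟨h1, h2⟩, h3⟩ := hi
  refine ⟨⟨inferInstance, ?_⟩, ?_⟩
  · exact IsZariskiLocalAtTarget.restrict h2 V'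
  · have key : ∀ W0, i.ker.ideal W0 * i.ker.ideal W0 = ⊥ := fun W0 => by
      have := congrArg (fun I => Scheme.IdealSheafData.ideal I W0) h3
      simpa using this
    ext W : 2
    rw [Scheme.IdealSheafData.ideal_mul, Pi.mul_apply, Scheme.ker_morphismRestrict_ideal]
    exact key _

end Groth.Agent.Lib.Helper15
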